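import Cfsg.Agent.H50.RG.LStmts
import Cfsg.Agent.H450.Bs.Tv
import Cfsg.Agent.H450.Bs.Herm

/-!
# S5714, RG-L18: `SU(V)` is generated by two opposite unipotent radicals (helper462)
-/

set_option autoImplicit false

namespace Cfsg.Agent.H462.RG

open Module Cfsg.Agent.H847.Bs Cfsg.Agent.H50.RG Cfsg.Agent.H450.Bs Cfsg.Agent.LieClassical.HermBasic
open Cfsg.Agent.H91.U (HForm SIso)
open Cfsg.Agent.H440.Bs

variable {F V : Type*} [Field F] [AddCommGroup V] [Module F V] {Φ : Frm F V} {r : ℕ}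

theorem B_neg_right (Φ : Frm F V) (x y : V) : Φ.B x (-y) = -Φ.B x y := by
  have h := Φ.add_right x y (-y)
  rw [add_neg_cancel, B_zero_right] at h
  exact eq_neg_of_add_eq_zero_right h.symm

theorem B_sub_right (Φ : Frm F V) (x y z : V) : Φ.B x (y - z) = Φ.B x y - Φ.B x z := by
  rw [sub_eq_add_neg, Φ.add_right, B_neg_right, ← sub_eq_add_neg]

theorem B_sub_left (Φ : Frm F V) (x y z : V) : Φ.B (x - y) z = Φ.B x z - Φ.B y z :=
  map_sub (lin Φ z) x y

theorem det_one_of_nilp [FiniteDimensional F V] {f : V →ₗ[F] V} (h : IsNilpotent (f - 1)) : LinearMap.det f = 1 := by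
  have h1 : IsNilpotent (1 - f) := by
    rw [← neg_sub]
    exact h.neg
  have h2 := h1.charpoly_eq_X_pow_finrank
  have h3 := LinearMap.eval_charpoly (1 - f) (1 : F)
  rw [h2, Polynomial.eval_pow, Polynomial.eval_X, one_pow] at h3
  rw [h3, map_one]
  congr 1
  abel

/-- Siegel elements -/
def sgMap (Φ : Frm F V) (u w : V) (l : F) : V →ₗ[F] V :=
  LinearMap.id + (lin Φ u).smulRight w - (lin Φ w).smulRight u + (l • lin Φ u).smulRight u

theorem sgMap_apply (u w : V) (l : F) (x : V) :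
    sgMap Φ u w l x = x + Φ.B x u • w - Φ.B x w • u + (l * Φ.B x u) • u := rfl

/-- `g` is the Siegel element -/
def IsSg (Φ : Frm F V) (u w : V) (l : F) (g : V ≃ₗ[F] V) : Prop :=
  ∀ x, g x = x + Φ.B x u • w - Φ.B x w • u + (l * Φ.B x u) • u

theorem exists_siegel [FiniteDimensional F V] (hΦ : IsHerm r Φ) {u w : V} {l : F} (huu : Φ.B u u = 0)
    (hwu : Φ.B w u = 0) (hl : l + l ^ r = -Φ.B w w) : ∃ g ∈ Φ.Iso ⊓ slV F V, IsSg Φ u w l g := by
  have huw : Φ.B u w = 0 := Φ.refl _ _ hwu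
  have hnil : (sgMap Φ u w l - 1) ^ 3 = 0 := by
    have h1 : ∀ x, (sgMap Φ u w l - 1) x = Φ.B x u • w - Φ.B x w • u + (l * Φ.B x u) • u := by
      intro x
      rw [LinearMap.sub_apply, Module.End.one_apply, sgMap_apply]
      abel
    have hu : (sgMap Φ u w l - 1) u = 0 := by
      simp only [h1, huu, huw, mul_zero, zero_smul, sub_zero, add_zero]
    have hw : (sgMap Φ u w l - 1) w = -Φ.B w w • u := by
      simp only [h1, hwu, mul_zero, zero_smul, zero_sub, add_zero, neg_smul]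
    refine LinearMap.ext fun x => ?_
    rw [pow_succ, pow_two, Module.End.mul_apply, Module.End.mul_apply, h1 x, map_add, map_sub, map_smul, map_smul,
      map_smul, hu, hw, smul_zero, smul_zero, sub_zero, add_zero, map_smul, map_smul, hu, smul_zero, smul_zero,
      LinearMap.zero_apply]
  have hdet := det_one_of_nilp (f := sgMap Φ u w l) ⟨3, hnil⟩
  let g : V ≃ₗ[F] V := LinearMap.equivOfDetNeZero (sgMap Φ u w l) (by rw [hdet]; exact one_ne_zero)
  have hg : ∀ x, g x = x + Φ.B x u • w - Φ.B x w • u + (l * Φ.B x u) • u := fun x => sgMap_apply u w l x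
  refine ⟨g, ⟨⟨fun x y => ?_, fun x => by rw [hΦ.q, hΦ.q]⟩, ?_⟩, hg⟩
  · have hwy : Φ.B w y = Φ.B y w ^ r := hΦ.symm y w
    have huy : Φ.B u y = Φ.B y u ^ r := hΦ.symm y u
    rw [hg x, hg y]
    simp only [Φ.add_left, Φ.add_right, B_sub_left, B_sub_right, Φ.smul_left, Φ.smul_right, hΦ.s, huu, huw, hwu, hwy,
      huy, mul_pow]
    linear_combination (Φ.B x u * Φ.B y u ^ r) * hl
  · show LinearMap.det (g : V →ₗ[F] V) = 1
    have h2 : (g : V →ₗ[F] V) = sgMap Φ u w l := LinearMap.ext fun x => rfl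
    rw [h2, hdet]

/-- Siegel elements in the unipotent radical -/
theorem IsSg.mem {A : Submodule F V} (hA : Φ.TI A) {u w : V} {l : F} (hu : u ∈ A) (hw : w ∈ perp Φ A)
    {g : V ≃ₗ[F] V} (hg : IsSg Φ u w l g) (hgi : g ∈ Φ.Iso) : g ∈ RadG Φ A := by
  have hup : u ∈ perp Φ A := fun a ha => hA.1 u hu a ha
  refine ⟨hgi, fun x => ?_, fun x hx => ?_, fun a ha => ?_⟩
  · have h1 : g x - x = Φ.B x u • w - Φ.B x w • u + (l * Φ.B x u) • u := by rw [hg x]; abel
    rw [h1]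
    exact (perp Φ A).add_mem ((perp Φ A).sub_mem ((perp Φ A).smul_mem _ hw) ((perp Φ A).smul_mem _ hup))
      ((perp Φ A).smul_mem _ hup)
  · have h1 : g x - x = -(Φ.B x w • u) := by
      rw [hg x, hx u hu]
      simp
    rw [h1]
    exact A.neg_mem (A.smul_mem _ hu)
  · rw [hg a, hA.1 a ha u hu, Φ.refl _ _ (hw a ha)]
    simp

/-- all transvections with centre `c` are in `H` -/
def PT (Φ : Frm F V) (r : ℕ) (H : Subgroup (V ≃ₗ[F] V)) (c : V) : Prop :=
  ∀ l : F, l + l ^ r = 0 → ∀ g : V ≃ₗ[F] V, (∀ x, g x = x + (l * Φ.B x c) • c) → g ∈ H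

theorem PT.of_map {H : Subgroup (V ≃ₗ[F] V)} {h : V ≃ₗ[F] V} (hh : h ∈ H) (hhi : h ∈ Φ.Iso) {c : V}
    (hc : PT Φ r H (h c)) : PT Φ r H c := by
  intro l hl g hg
  have h1 : h * g * h⁻¹ ∈ H := by
    refine hc l hl _ fun x => ?_
    show h (g (h⁻¹ x)) = _
    have h2 : h (h⁻¹ x) = x := h.apply_symm_apply x
    have h3 : Φ.B (h⁻¹ x) c = Φ.B x (h c) := by
      rw [← hhi.1 (h⁻¹ x) c, h2]
    rw [hg, map_add, map_smul, h2, h3]
  have h2 : g = h⁻¹ * (h * g * h⁻¹) * h := by group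
  rw [h2]
  exact H.mul_mem (H.mul_mem (H.inv_mem hh) h1) hh

/-- transvections in the unipotent radical -/
theorem pt_of_mem [FiniteDimensional F V] (hΦ : IsHerm r Φ) {A : Submodule F V} (hA : Φ.TI A) {c : V} (hc : c ∈ A)
    {H : Subgroup (V ≃ₗ[F] V)} (hH : (Φ.Iso ⊓ slV F V) ⊓ RadG Φ A ≤ H) : PT Φ r H c := by
  intro l hl g hg
  obtain ⟨k, hk, hks⟩ := exists_siegel hΦ (w := (0 : V)) (hA.1 c hc c hc) (B_zero_left Φ c) (l := l) (by
    rw [hl, B_zero_left, neg_zero])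
  have h1 : g = k := by
    refine LinearEquiv.ext fun x => ?_
    rw [hg, hks, B_zero_right, smul_zero, zero_smul, add_zero, sub_zero]
  rw [h1]
  exact hH ⟨hk, hks.mem hA hc (perp Φ A).zero_mem hk.1⟩

/-- the vectors outside `A'^⊥` -/
theorem pt_of_not_mem [Finite F] [FiniteDimensional F V] (hΦ : IsHerm r Φ) {A A' C : Submodule F V} (hO : Opp Φ A A' C)
    {H : Subgroup (V ≃ₗ[F] V)} (hH : (Φ.Iso ⊓ slV F V) ⊓ RadG Φ A ≤ H) (hH' : (Φ.Iso ⊓ slV F V) ⊓ RadG Φ A' ≤ H)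
    {v : V} (hv : Φ.B v v = 0) (hvA : v ∉ perp Φ A') : PT Φ r H v := by
  -- `u ∈ A'` with `B v u = 1`
  obtain ⟨u, hu, huv⟩ : ∃ u ∈ A', Φ.B v u = 1 := by
    have h1 : ∃ u ∈ A', Φ.B v u ≠ 0 := by
      by_contra hcon
      push Not at hcon
      exact hvA hcon
    obtain ⟨u, hu, huv⟩ := h1
    refine ⟨((Φ.B v u)⁻¹) ^ r • u, A'.smul_mem _ hu, ?_⟩
    rw [Φ.smul_right, hΦ.s]
    have h2 : ((Φ.B v u)⁻¹ ^ r) ^ r = (Φ.B v u)⁻¹ := by
      have := Fintype.ofFinite F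
      exact pow_q_pow_q (by rw [← Nat.card_eq_fintype_card, hΦ.card]) _
    rw [h2, inv_mul_cancel₀ huv]
  obtain ⟨a, ha, x, hx, hax⟩ : ∃ a ∈ A, ∃ x ∈ perp Φ A', v = a + x := by
    have h1 : v ∈ A ⊔ perp Φ A' := by
      rw [hO.perp_eq', ← sup_assoc, hO.compl.sup_eq_top]
      trivial
    obtain ⟨a, ha, x, hx, h2⟩ := Submodule.mem_sup.1 h1
    exact ⟨a, ha, x, hx, h2.symm⟩
  have haa : Φ.B a a = 0 := hO.ti.1 a ha a ha
  have hwp : a - v ∈ perp Φ A' := by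
    have h1 : a - v = -x := by rw [hax]; abel
    rw [h1]
    exact (perp Φ A').neg_mem hx
  have hwu : Φ.B (a - v) u = 0 := hwp u hu
  have hl : Φ.B v (a - v) + Φ.B v (a - v) ^ r = -Φ.B (a - v) (a - v) := by
    rw [← hΦ.symm v (a - v)]
    simp only [B_sub_left, B_sub_right, haa, hv]
    ring
  obtain ⟨g, hg, hgs⟩ := exists_siegel hΦ (hO.ti'.1 u hu u hu) hwu hl
  have hgH : g ∈ H := hH' ⟨hg, hgs.mem hO.ti' hu hwp hg.1⟩
  have hgv : g v = a := by
    rw [hgs v, huv, mul_one, one_smul]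
    abel
  refine PT.of_map hgH hg.1 ?_
  rw [hgv]
  exact pt_of_mem hΦ hO.ti ha hH

theorem Opp.symm' {A A' C : Submodule F V} (hO : Opp Φ A A' C) : Opp Φ A' A C :=
  ⟨hO.ti', hO.ti, hO.dim.symm, hO.disj.symm, by rw [sup_comm]; exact hO.compl, hO.perp_eq', hO.perp_eq⟩

/-- the isotropic vectors -/
theorem pt_of_iso [Finite F] [FiniteDimensional F V] (hΦ : IsHerm r Φ) {A A' C : Submodule F V} (hO : Opp Φ A A' C)
    (hA0 : A ≠ ⊥) {H : Subgroup (V ≃ₗ[F] V)} (hH : (Φ.Iso ⊓ slV F V) ⊓ RadG Φ A ≤ H)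
    (hH' : (Φ.Iso ⊓ slV F V) ⊓ RadG Φ A' ≤ H) {v : V} (hv : Φ.B v v = 0) : PT Φ r H v := by
  by_cases h1 : v ∈ perp Φ A'
  swap
  · exact pt_of_not_mem hΦ hO hH hH' hv h1
  by_cases h2 : v ∈ perp Φ A
  swap
  · exact pt_of_not_mem hΦ (Opp.symm' hO) hH' hH hv h2
  rcases eq_or_ne v 0 with rfl | hv0
  · intro l hl g hg
    have h3 : g = 1 := LinearEquiv.ext fun x => by
      rw [hg, smul_zero, add_zero]
      rfl
    rw [h3]
    exact H.one_mem
  -- `v ∈ C`: a vector `w ∈ C` with `B v w ≠ 0`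
  have hAC : ∀ c ∈ C, c ∈ perp Φ A := fun c hc => by
    rw [hO.perp_eq]
    exact Submodule.mem_sup_right hc
  have hAC' : ∀ c ∈ C, c ∈ perp Φ A' := fun c hc => by
    rw [hO.perp_eq']
    exact Submodule.mem_sup_right hc
  obtain ⟨w, hw, hvw⟩ : ∃ w ∈ C, Φ.B v w ≠ 0 := by
    by_contra hcon
    push Not at hcon
    apply hv0
    apply hΦ.nd v
    intro y
    obtain ⟨z, hz, c, hc, rfl⟩ := Submodule.mem_sup.1 (hO.compl.sup_eq_top.ge (Submodule.mem_top (x := y)))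
    obtain ⟨a, ha, a', ha', rfl⟩ := Submodule.mem_sup.1 hz
    rw [Φ.add_right, Φ.add_right, h2 a ha, h1 a' ha', hcon c hc, add_zero, add_zero]
  obtain ⟨a, ha, ha0⟩ := (Submodule.ne_bot_iff _).1 hA0
  -- `a ∉ A'^⊥`
  have haA : a ∉ perp Φ A' := by
    intro h3
    rw [hO.perp_eq'] at h3
    obtain ⟨a', ha', c, hc, h4⟩ := Submodule.mem_sup.1 h3
    have h5 : c ∈ A ⊔ A' := by
      have : c = a - a' := by rw [← h4]; abel
      rw [this]
      exact (A ⊔ A').sub_mem (Submodule.mem_sup_left ha) (Submodule.mem_sup_right ha')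
    have h6 : c = 0 := (Submodule.disjoint_def.1 hO.compl.disjoint) c h5 hc
    rw [h6, add_zero] at h4
    exact ha0 ((Submodule.disjoint_def.1 hO.disj) a ha (h4 ▸ ha'))
  obtain ⟨l, hl⟩ : ∃ l : F, l + l ^ r = -Φ.B w w := by
    have := Fintype.ofFinite F
    have hF : Fintype.card F = r ^ 2 := by rw [← Nat.card_eq_fintype_card, hΦ.card]
    refine exists_trace_eq hF ?_
    rw [neg_pow_q hF, ← hΦ.symm w w]
  obtain ⟨g, hg, hgs⟩ := exists_siegel hΦ (hO.ti.1 a ha a ha) (hAC w hw a ha) hl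
  have hgH : g ∈ H := hH ⟨hg, hgs.mem hO.ti ha (hAC w hw) hg.1⟩
  have hgv : g v = v - Φ.B v w • a := by
    rw [hgs v, h2 a ha]
    simp
  refine PT.of_map hgH hg.1 (pt_of_not_mem hΦ hO hH hH' ?_ ?_)
  · rw [hg.1.1, hv]
  · rw [hgv]
    intro h3
    apply haA
    have h4 : Φ.B v w • a ∈ perp Φ A' := by
      have : Φ.B v w • a = v - (v - Φ.B v w • a) := by abel
      rw [this]
      exact (perp Φ A').sub_mem h1 h3
    have h5 := (perp Φ A').smul_mem (Φ.B v w)⁻¹ h4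
    rwa [smul_smul, inv_mul_cancel₀ hvw, one_smul] at h5

/-- **RG-L18** -/
theorem l18 : L18 := by
  intro F V _ _ _ _ _ r Φ A A' C hΦ hO hA hC
  have := Fintype.ofFinite F
  have hF : Fintype.card F = r ^ 2 := by rw [← Nat.card_eq_fintype_card, hΦ.card]
  apply le_antisymm
  · exact sup_le inf_le_left inf_le_left
  · rw [← siso_toB hF hΦ]
    have hA0 : A ≠ ⊥ := by
      rintro rfl
      rw [finrank_bot] at hA
      omega
    refine gen (hform_toB hF hΦ) ?_ ?_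
    · have h1 := Submodule.finrank_add_eq_of_isCompl hO.compl
      have h2 := Submodule.finrank_sup_add_finrank_inf_eq A A'
      rw [hO.disj.eq_bot, finrank_bot, add_zero, ← hO.dim] at h2
      omega
    · intro c _ hc l hl g hg
      rw [siso_toB hF hΦ]
      exact pt_of_iso hΦ hO hA0 le_sup_left le_sup_right (v := c) hc l hl g hg

end Cfsg.Agent.H462.RG
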